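import Groth.Agent.LocFlat.Basic
import Mathlib.RingTheory.Flat.Stability
import Mathlib.RingTheory.Ideal.Quotient.Operations

/-!
Flatness modulo nilpotent ideals and modulo intersections of ideals.
-/

set_option autoImplicit false
set_option linter.style.haveILetI false
open TensorProduct

universe u

namespace Groth.Agent.FlatNilp

variable {R : Type u} [CommRing R]

/-- Flatness of a base change passes to further base changes. -/
theorem flat_baseChange_of_tower (A B : Type u) [CommRing A] [CommRing B] [Algebra R A] [Algebra R B]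
    [Algebra A B] [IsScalarTower R A B] (M : Type u) [AddCommGroup M] [Module R M]
    [Module.Flat A (A ⊗[R] M)] : Module.Flat B (B ⊗[R] M) :=
  Module.Flat.of_linearEquiv (AlgebraTensorModule.cancelBaseChange R A B B M).symm

/-- Flatness of a base change, computed in two steps. -/
theorem flat_baseChange_twice (A B : Type u) [CommRing A] [CommRing B] [Algebra R A] [Algebra R B]
    [Algebra A B] [IsScalarTower R A B] (M : Type u) [AddCommGroup M] [Module R M]
    [Module.Flat B (B ⊗[R] M)] : Module.Flat B (B ⊗[A] (A ⊗[R] M)) :=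
  Module.Flat.of_linearEquiv (AlgebraTensorModule.cancelBaseChange R A B B M)

/-- An `S`-linear injection stays injective after `⊗_R M` when `S ⊗_R M` is `S`-flat. -/
theorem rTensor_injective_of_flat_baseChange (S : Type u) [CommRing S] [Algebra R S]
    (M : Type u) [AddCommGroup M] [Module R M] [Module.Flat S (S ⊗[R] M)]
    {A B : Type u} [AddCommGroup A] [Module S A] [Module R A] [IsScalarTower R S A]
    [AddCommGroup B] [Module S B] [Module R B] [IsScalarTower R S B]
    (a : A →ₗ[S] B) (ha : Function.Injective a) :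
    Function.Injective ((a.restrictScalars R).rTensor M) := by
  let eA := AlgebraTensorModule.cancelBaseChange R S S A M
  let eB := AlgebraTensorModule.cancelBaseChange R S S B M
  have key : ∀ z, (a.restrictScalars R).rTensor M (eA z) = eB (a.rTensor (S ⊗[R] M) z) := by
    intro z
    induction z using TensorProduct.induction_on with
    | zero => simp
    | tmul x y =>
      induction y using TensorProduct.induction_on with
      | zero => simp
      | tmul s m => simp [eA, eB]
      | add u v hu hv => simp only [TensorProduct.tmul_add, map_add, hu, hv]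
    | add u v hu hv => simp only [map_add, hu, hv]
  intro x y hxy
  obtain ⟨x, rfl⟩ := eA.surjective x
  obtain ⟨y, rfl⟩ := eA.surjective y
  rw [key, key] at hxy
  rw [Module.Flat.rTensor_preserves_injective_linearMap a ha (eB.injective hxy)]

/-- An injection into a module killed by `I` stays injective after `⊗ M` when `M / I M` is flat. -/
theorem rTensor_injective_of_killed (I : Ideal R) (M : Type u) [AddCommGroup M] [Module R M]
    [Module.Flat (R ⧸ I) ((R ⧸ I) ⊗[R] M)]
    {A B : Type u} [AddCommGroup A] [Module R A] [AddCommGroup B] [Module R B]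
    (a : A →ₗ[R] B) (ha : Function.Injective a) (hB : ∀ r ∈ I, ∀ x : B, r • x = 0) :
    Function.Injective (a.rTensor M) := by
  have hB' : Module.IsTorsionBySet R B (I : Set R) := fun x r => hB r r.2 x
  have hA' : Module.IsTorsionBySet R A (I : Set R) := fun x r =>
    ha (by rw [map_smul, map_zero]; exact hB r r.2 _)
  letI := hB'.module
  letI := hA'.module
  haveI : IsScalarTower R (R ⧸ I) B := hB'.isScalarTower
  haveI : IsScalarTower R (R ⧸ I) A := hA'.isScalarTower
  let a' : A →ₗ[R ⧸ I] B :=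
    { toFun := a
      map_add' := map_add a
      map_smul' := fun s x => by
        obtain ⟨r, rfl⟩ := Ideal.Quotient.mk_surjective s
        exact map_smul a r x }
  exact rTensor_injective_of_flat_baseChange (R ⧸ I) M a' ha

/-- Flatness from flatness modulo `I₁` and `I₂` with `I₁ I₂ = 0` and `I₁ ⊗ M → M` injective. -/
theorem flat_of_flat_quotients (I₁ I₂ : Ideal R) (hI : ∀ x ∈ I₁, ∀ y ∈ I₂, y * x = 0)
    (M : Type u) [AddCommGroup M] [Module R M]
    [Module.Flat (R ⧸ I₁) ((R ⧸ I₁) ⊗[R] M)] [Module.Flat (R ⧸ I₂) ((R ⧸ I₂) ⊗[R] M)]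
    (h : Function.Injective ((Submodule.subtype I₁).rTensor M)) : Module.Flat R M := by
  rw [Module.Flat.iff_rTensor_injective']
  intro J
  rw [injective_iff_map_eq_zero]
  intro x hx
  let g : J →ₗ[R] R ⧸ I₁ := I₁.mkQ ∘ₗ Submodule.subtype J
  have hg : (LinearMap.range g).subtype.rTensor M (g.rangeRestrict.rTensor M x) = 0 := by
    rw [← LinearMap.rTensor_comp_apply, LinearMap.subtype_comp_codRestrict]
    rw [LinearMap.rTensor_comp_apply, hx, map_zero]
  have h0 : g.rangeRestrict.rTensor M x = 0 := by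
    refine rTensor_injective_of_killed I₁ M _ (Submodule.injective_subtype _) ?_ (hg.trans (map_zero _).symm)
    intro r hr y
    rw [Algebra.smul_def, Ideal.Quotient.algebraMap_eq, Ideal.Quotient.eq_zero_iff_mem.mpr hr, zero_mul]
  obtain ⟨y, rfl⟩ := (rTensor_exact M (f := (LinearMap.ker g).subtype) (g := g.rangeRestrict)
    (LinearMap.exact_iff.mpr (by simp)) g.surjective_rangeRestrict x).mp h0
  let ι : LinearMap.ker g →ₗ[R] I₁ := LinearMap.codRestrict I₁
    (Submodule.subtype J ∘ₗ (LinearMap.ker g).subtype)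
    (fun z => (Submodule.Quotient.mk_eq_zero I₁).mp z.2)
  have hι : Function.Injective ι := fun u v huv => by
    have := congrArg Subtype.val huv
    exact Subtype.ext (Subtype.ext this)
  have hinj : Function.Injective (ι.rTensor M) :=
    rTensor_injective_of_killed I₂ M ι hι fun r hr z => Subtype.ext (hI z z.2 r hr)
  have hy : y = 0 := by
    refine hinj (h ?_)
    rw [map_zero, map_zero, ← LinearMap.rTensor_comp_apply, LinearMap.subtype_comp_codRestrict,
      LinearMap.rTensor_comp_apply, hx]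
  rw [hy, map_zero]

/-- Stacks 051M: square-zero case. -/
theorem flat_of_sq_zero (R' : Type u) [CommRing R'] [Algebra R R']
    (hinj : Function.Injective (algebraMap R R')) (I : Ideal R) (hI : I * I = ⊥)
    (M : Type u) [AddCommGroup M] [Module R M] [Module.Flat (R ⧸ I) ((R ⧸ I) ⊗[R] M)]
    [Module.Flat R' (R' ⊗[R] M)] : Module.Flat R M := by
  have hmul : ∀ x ∈ I, ∀ y ∈ I, y * x = 0 := fun x hx y hy => by
    rw [← Ideal.mem_bot, ← hI]; exact Ideal.mul_mem_mul hy hx
  refine flat_of_flat_quotients I I hmul M ?_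
  let J : Ideal R' := I.map (algebraMap R R')
  have hJ : ∀ r ∈ I, ∀ z : J, r • z = 0 := fun r hr z => by
    apply Subtype.ext
    have : algebraMap R R' r * (z : R') ∈ (I * I).map (algebraMap R R') := by
      rw [Ideal.map_mul]; exact Ideal.mul_mem_mul (Ideal.mem_map_of_mem _ hr) z.2
    rw [hI, Ideal.map_bot, Ideal.mem_bot] at this
    simpa [Algebra.smul_def] using this
  let a : I →ₗ[R] J :=
    { toFun := fun x => ⟨algebraMap R R' x, Ideal.mem_map_of_mem _ x.2⟩
      map_add' := fun x y => Subtype.ext (by simp)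
      map_smul' := fun r x => Subtype.ext (by simp [Algebra.smul_def]) }
  have ha : Function.Injective a := fun x y hxy => Subtype.ext (hinj (congrArg Subtype.val hxy))
  have h1 : Function.Injective (a.rTensor M) := rTensor_injective_of_killed I M a ha hJ
  have h2 : Function.Injective (((Submodule.subtype J).restrictScalars R).rTensor M) :=
    rTensor_injective_of_flat_baseChange R' M _ (Submodule.injective_subtype _)
  have h3 := h2.comp h1
  rw [← LinearMap.coe_comp, ← LinearMap.rTensor_comp,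
    show (Submodule.subtype J).restrictScalars R ∘ₗ a = Algebra.linearMap R R' ∘ₗ Submodule.subtype I from
      LinearMap.ext fun x => rfl, LinearMap.rTensor_comp, LinearMap.coe_comp] at h3
  exact Function.Injective.of_comp h3

/-- Stacks 051M. -/
theorem flat_quotient_comap_sq (R' : Type u) [CommRing R'] [Algebra R R'] (I : Ideal R)
    (M : Type u) [AddCommGroup M] [Module R M] [Module.Flat (R ⧸ I) ((R ⧸ I) ⊗[R] M)]
    [Module.Flat R' (R' ⊗[R] M)] :
    Module.Flat (R ⧸ ((I ^ 2).map (algebraMap R R')).comap (algebraMap R R'))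
      ((R ⧸ ((I ^ 2).map (algebraMap R R')).comap (algebraMap R R')) ⊗[R] M) := by
  set J := (I ^ 2).map (algebraMap R R')
  set I₂ := J.comap (algebraMap R R')
  set Ib := I.map (Ideal.Quotient.mk I₂)
  letI alg₁ : Algebra (R ⧸ I₂) (R' ⧸ J) := (Ideal.quotientMap J (algebraMap R R') le_rfl).toAlgebra
  haveI : IsScalarTower R (R ⧸ I₂) (R' ⧸ J) := IsScalarTower.of_algebraMap_eq fun _ => rfl
  letI alg₂ : Algebra (R ⧸ I) ((R ⧸ I₂) ⧸ Ib) :=
    (Ideal.Quotient.lift I ((Ideal.Quotient.mk Ib).comp (Ideal.Quotient.mk I₂))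
      (fun r hr => Ideal.Quotient.eq_zero_iff_mem.mpr (Ideal.mem_map_of_mem _ hr))).toAlgebra
  haveI : IsScalarTower R (R ⧸ I) ((R ⧸ I₂) ⧸ Ib) := IsScalarTower.of_algebraMap_eq fun _ => rfl
  haveI := flat_baseChange_of_tower (R := R) (R ⧸ I) ((R ⧸ I₂) ⧸ Ib) M
  haveI := flat_baseChange_of_tower (R := R) R' (R' ⧸ J) M
  haveI := flat_baseChange_twice (R := R) (R ⧸ I₂) ((R ⧸ I₂) ⧸ Ib) M
  haveI := flat_baseChange_twice (R := R) (R ⧸ I₂) (R' ⧸ J) M
  refine flat_of_sq_zero (R' ⧸ J) Ideal.quotientMap_injective Ib ?_ _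
  rw [← Ideal.map_mul, ← pow_two, Ideal.map_eq_bot_iff_le_ker, Ideal.mk_ker]
  exact Ideal.le_comap_map

/-- Stacks 051L: nilpotent ideal, injective ring map. -/
theorem flat_of_nilpotent (R' : Type u) [CommRing R'] [Algebra R R']
    (hinj : Function.Injective (algebraMap R R')) (I : Ideal R) (hI : IsNilpotent I)
    (M : Type u) [AddCommGroup M] [Module R M] [Module.Flat (R ⧸ I) ((R ⧸ I) ⊗[R] M)]
    [Module.Flat R' (R' ⊗[R] M)] : Module.Flat R M := by
  suffices H : ∀ (k : ℕ) (I : Ideal R), I ^ (2 ^ k) = ⊥ →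
      Module.Flat (R ⧸ I) ((R ⧸ I) ⊗[R] M) → Module.Flat R M by
    obtain ⟨n, hn⟩ := hI
    exact H n I (eq_bot_iff.mpr ((Ideal.pow_le_pow_right Nat.lt_two_pow_self.le).trans_eq hn)) ‹_›
  intro k
  induction k with
  | zero =>
    intro I hI h
    rw [pow_zero, pow_one] at hI
    subst hI
    exact flat_of_sq_zero R' hinj ⊥ (by simp) M
  | succ k ih =>
    intro I hI h
    refine ih (((I ^ 2).map (algebraMap R R')).comap (algebraMap R R')) ?_
      (flat_quotient_comap_sq R' I M)
    rw [eq_bot_iff]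
    intro x hx
    rw [Ideal.mem_bot]
    apply hinj
    rw [map_zero]
    have h1 := Ideal.map_pow (algebraMap R R') (((I ^ 2).map (algebraMap R R')).comap (algebraMap R R')) (2 ^ k)
    have h2 := Ideal.mem_map_of_mem (algebraMap R R') hx
    rw [h1] at h2
    have h3 := Ideal.pow_right_mono (Ideal.map_comap_le (f := algebraMap R R')
      (K := (I ^ 2).map (algebraMap R R'))) (2 ^ k) h2
    rwa [← Ideal.map_pow, ← pow_mul, ← pow_succ', hI, Ideal.map_bot, Ideal.mem_bot] at h3

/-- Flatness modulo an intersection. -/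
theorem flat_quotient_inf (M : Type u) [AddCommGroup M] [Module R M] (I₁ I₂ : Ideal R)
    [Module.Flat (R ⧸ I₁) ((R ⧸ I₁) ⊗[R] M)] [Module.Flat (R ⧸ I₂) ((R ⧸ I₂) ⊗[R] M)] :
    Module.Flat (R ⧸ (I₁ ⊓ I₂)) ((R ⧸ (I₁ ⊓ I₂)) ⊗[R] M) := by
  set I := I₁ ⊓ I₂
  set A := R ⧸ I
  set J₁ := I₁.map (Ideal.Quotient.mk I)
  set J₂ := I₂.map (Ideal.Quotient.mk I)
  letI : Algebra (R ⧸ I₁) (A ⧸ J₁) :=
    (Ideal.Quotient.lift I₁ ((Ideal.Quotient.mk J₁).comp (Ideal.Quotient.mk I))
      (fun r hr => Ideal.Quotient.eq_zero_iff_mem.mpr (Ideal.mem_map_of_mem _ hr))).toAlgebra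
  letI : Algebra (R ⧸ I₂) (A ⧸ J₂) :=
    (Ideal.Quotient.lift I₂ ((Ideal.Quotient.mk J₂).comp (Ideal.Quotient.mk I))
      (fun r hr => Ideal.Quotient.eq_zero_iff_mem.mpr (Ideal.mem_map_of_mem _ hr))).toAlgebra
  haveI : IsScalarTower R (R ⧸ I₁) (A ⧸ J₁) := IsScalarTower.of_algebraMap_eq fun _ => rfl
  haveI : IsScalarTower R (R ⧸ I₂) (A ⧸ J₂) := IsScalarTower.of_algebraMap_eq fun _ => rfl
  haveI := flat_baseChange_of_tower (R := R) (R ⧸ I₁) (A ⧸ J₁) M
  haveI := flat_baseChange_of_tower (R := R) (R ⧸ I₂) (A ⧸ J₂) M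
  haveI := flat_baseChange_twice (R := R) A (A ⧸ J₁) M
  haveI := flat_baseChange_twice (R := R) A (A ⧸ J₂) M
  have hdis : ∀ x ∈ J₁, x ∈ J₂ → x = 0 := by
    intro x hx₁ hx₂
    obtain ⟨a, ha, rfl⟩ := (Ideal.mem_map_iff_of_surjective _ Ideal.Quotient.mk_surjective).mp hx₁
    obtain ⟨b, hb, hab⟩ := (Ideal.mem_map_iff_of_surjective _ Ideal.Quotient.mk_surjective).mp hx₂
    rw [Ideal.Quotient.eq_zero_iff_mem]
    refine ⟨ha, ?_⟩
    have := (Ideal.Quotient.eq.mp hab).2
    simpa using I₂.sub_mem hb this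
  have hmul : ∀ x ∈ J₁, ∀ y ∈ J₂, y * x = 0 := fun x hx y hy =>
    hdis _ (J₁.mul_mem_left y hx) (J₂.mul_mem_right x hy)
  refine flat_of_flat_quotients J₁ J₂ hmul _ ?_
  let a : J₁ →ₗ[A] A ⧸ J₂ := J₂.mkQ ∘ₗ Submodule.subtype J₁
  have ha : Function.Injective a := by
    rw [injective_iff_map_eq_zero]
    intro x hx
    exact Subtype.ext (hdis x x.2 ((Submodule.Quotient.mk_eq_zero J₂).mp hx))
  have h1 : Function.Injective (a.rTensor (A ⊗[R] M)) :=
    rTensor_injective_of_killed J₂ _ a ha fun r hr z => by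
      obtain ⟨z, rfl⟩ := Submodule.Quotient.mk_surjective J₂ z
      rw [← Submodule.Quotient.mk_smul, Submodule.Quotient.mk_eq_zero]
      exact J₂.mul_mem_right z hr
  rw [LinearMap.rTensor_comp, LinearMap.coe_comp] at h1
  exact Function.Injective.of_comp h1

end Groth.Agent.FlatNilp
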