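import Groth.Agent.LocFlat.Basic
import Groth.Agent.NilFree.Basic
import Mathlib.RingTheory.TensorProduct.Free
import Mathlib.LinearAlgebra.TensorProduct.Quotient

/-!
Bases modulo nilpotent ideals.
-/

set_option autoImplicit false
set_option linter.style.haveILetI false
open TensorProduct

universe u

namespace Groth.Agent.FlatNilp

variable {R : Type u} [CommRing R]

theorem linearCombination_bijective_of_basis_mod (I : Ideal R) (hI : IsNilpotent I) (M : Type u)
    [AddCommGroup M] [Module R M] (htor : Function.Injective ((Submodule.subtype I).rTensor M))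
    {A : Type u} (x : A → M)
    (hli : LinearIndependent (R ⧸ I) (fun a => (1 : R ⧸ I) ⊗ₜ[R] x a))
    (hsp : Submodule.span (R ⧸ I) (Set.range fun a => (1 : R ⧸ I) ⊗ₜ[R] x a) = ⊤) :
    Function.Bijective (Finsupp.linearCombination R x) := by
  classical
  let ψ := Finsupp.linearCombination R x
  let q : M →ₗ[R] (R ⧸ I) ⊗[R] M := TensorProduct.mk R (R ⧸ I) M 1
  have hqker : LinearMap.ker q = I • ⊤ := by
    ext m
    have h1 := TensorProduct.quotTensorEquivQuotSMul_mk_tmul I (1 : R) m
    rw [one_smul] at h1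
    rw [LinearMap.mem_ker, ← LinearEquiv.map_eq_zero_iff (TensorProduct.quotTensorEquivQuotSMul M I)]
    show TensorProduct.quotTensorEquivQuotSMul M I (Ideal.Quotient.mk I 1 ⊗ₜ[R] m) = 0 ↔ _
    rw [h1, Submodule.Quotient.mk_eq_zero]
  have hqψ : ∀ (c : A →₀ R), q (ψ c) = Finsupp.linearCombination (R ⧸ I)
      (fun a => (1 : R ⧸ I) ⊗ₜ[R] x a) (c.mapRange (Ideal.Quotient.mk I) (map_zero _)) := fun c => by
    induction c using Finsupp.induction_linear with
    | zero => simp
    | add u v hu hv => rw [map_add, map_add, hu, hv, Finsupp.mapRange_add (map_add _), map_add]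
    | single a r =>
      simp only [ψ, Finsupp.linearCombination_single, map_smul, Finsupp.mapRange_single, q,
        TensorProduct.mk_apply]
      rw [← Ideal.Quotient.algebraMap_eq, algebraMap_smul]
  haveI : Module.Free (R ⧸ I) ((R ⧸ I) ⊗[R] M) := .of_basis (Module.Basis.mk hli hsp.ge)
  haveI : Module.Flat R M := LocFlat.flat_criterion_nilpotent M I hI htor inferInstance
  have hsurj : Function.Surjective ψ := by
    rw [← LinearMap.range_eq_top]
    refine Groth.Agent.NilFree.eq_top_of_sup_smul_eq_top hI (eq_top_iff.mpr fun m _ => ?_)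
    have hm : q m ∈ Submodule.span (R ⧸ I) (Set.range fun a => (1 : R ⧸ I) ⊗ₜ[R] x a) := hsp ▸ trivial
    obtain ⟨c, hc⟩ := (Finsupp.mem_span_range_iff_exists_finsupp).mp hm
    obtain ⟨c', rfl⟩ := Finsupp.mapRange_surjective (Ideal.Quotient.mk I) (map_zero _)
      Ideal.Quotient.mk_surjective c
    rw [← Finsupp.linearCombination_apply, ← hqψ] at hc
    have hdiff : m - ψ c' ∈ LinearMap.ker q := by rw [LinearMap.mem_ker, map_sub, hc, sub_self]
    rw [hqker] at hdiff
    exact Submodule.mem_sup.mpr ⟨ψ c', LinearMap.mem_range_self ψ c', m - ψ c', hdiff, by abel⟩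
  refine ⟨Groth.Agent.NilFree.injective_of_ker_le_smul_of_flat ψ hsurj hI fun c hc => ?_, hsurj⟩
  have h0 : c.mapRange (Ideal.Quotient.mk I) (map_zero _) = 0 := by
    apply hli
    rw [← hqψ, LinearMap.mem_ker.mp hc, map_zero, map_zero]
  rw [← Finsupp.sum_single c]
  refine Submodule.sum_mem _ fun a _ => ?_
  show Finsupp.single a (c a) ∈ I • (⊤ : Submodule R (A →₀ R))
  rw [← mul_one (c a), ← smul_eq_mul, ← Finsupp.smul_single]
  exact Submodule.smul_mem_smul (Ideal.Quotient.eq_zero_iff_mem.mp (DFunLike.congr_fun h0 a)) trivial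

theorem basis_of_basis_mod (I : Ideal R) (hI : IsNilpotent I) (M : Type u)
    [AddCommGroup M] [Module R M] (htor : Function.Injective ((Submodule.subtype I).rTensor M))
    {A : Type u} (x : A → M)
    (hli : LinearIndependent (R ⧸ I) (fun a => (1 : R ⧸ I) ⊗ₜ[R] x a))
    (hsp : Submodule.span (R ⧸ I) (Set.range fun a => (1 : R ⧸ I) ⊗ₜ[R] x a) = ⊤) :
    LinearIndependent R x ∧ Submodule.span R (Set.range x) = ⊤ := by
  have h := linearCombination_bijective_of_basis_mod I hI M htor x hli hsp
  exact ⟨h.1, by rw [← Finsupp.range_linearCombination, LinearMap.range_eq_top]; exact h.2⟩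

end Groth.Agent.FlatNilp
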