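import Groth.Agent.FlatNilp.Basic
import Groth.Agent.FDesc.Algebra
import Groth.Agent.DomMod.Basic
import Mathlib.RingTheory.Ideal.MinimalPrime.Noetherian
import Mathlib.RingTheory.Filtration
import Mathlib.RingTheory.Localization.BaseChange
import Mathlib.RingTheory.Ideal.GoingUp
import Mathlib.RingTheory.Flat.FaithfullyFlat.Basic
import Mathlib.RingTheory.TensorProduct.Finite
import Mathlib.RingTheory.Localization.Away.Basic
import Mathlib.RingTheory.Ideal.Quotient.Noetherian
import Mathlib.RingTheory.Flat.TorsionFree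
import Mathlib.RingTheory.Noetherian.Nilpotent

/-!
Flatness descends along finite injective maps of Noetherian rings.
-/

set_option autoImplicit false
set_option linter.style.haveILetI false

universe u

open TensorProduct

namespace Groth.Agent.FlatNilp

variable {R : Type u} [CommRing R]

theorem flat_quot_of_le {I J : Ideal R} (h : I ≤ J) (M : Type u) [AddCommGroup M] [Module R M]
    [Module.Flat (R ⧸ I) ((R ⧸ I) ⊗[R] M)] : Module.Flat (R ⧸ J) ((R ⧸ J) ⊗[R] M) := by
  letI : Algebra (R ⧸ I) (R ⧸ J) := (Ideal.Quotient.factor h).toAlgebra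
  haveI : IsScalarTower R (R ⧸ I) (R ⧸ J) := IsScalarTower.of_algebraMap_eq fun _ => rfl
  exact flat_baseChange_of_tower (R ⧸ I) (R ⧸ J) M

theorem flat_quot_finset_inf (M : Type u) [AddCommGroup M] [Module R M] (s : Finset (Ideal R))
    (h : ∀ p ∈ s, Module.Flat (R ⧸ p) ((R ⧸ p) ⊗[R] M)) :
    Module.Flat (R ⧸ s.inf id) ((R ⧸ s.inf id) ⊗[R] M) := by
  classical
  induction s using Finset.induction_on with
  | empty =>
    rw [Finset.inf_empty]
    haveI : Subsingleton (R ⧸ (⊤ : Ideal R)) := Ideal.Quotient.subsingleton_iff.mpr rfl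
    haveI : Subsingleton ((R ⧸ (⊤ : Ideal R)) ⊗[R] M) :=
      Module.subsingleton (R ⧸ (⊤ : Ideal R)) _
    exact Module.Flat.of_free
  | insert p s hp ih =>
    rw [Finset.inf_insert, id]
    haveI := h p (Finset.mem_insert_self p s)
    haveI := ih fun q hq => h q (Finset.mem_insert_of_mem hq)
    exact flat_quotient_inf M p (s.inf id)

theorem flat_quot_radical [IsNoetherianRing R] (M : Type u) [AddCommGroup M] [Module R M] (I : Ideal R)
    (h : ∀ p : Ideal R, p.IsPrime → I ≤ p → Module.Flat (R ⧸ p) ((R ⧸ p) ⊗[R] M)) :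
    Module.Flat (R ⧸ I.radical) ((R ⧸ I.radical) ⊗[R] M) := by
  classical
  have hfin : I.minimalPrimes.Finite := by
    rw [Ideal.minimalPrimes_eq_comap]
    exact (minimalPrimes.finite_of_isNoetherianRing (R ⧸ I)).image _
  have hle := flat_quot_finset_inf M hfin.toFinset (fun p hp => by
    rw [Set.Finite.mem_toFinset] at hp
    exact h p hp.1.1 hp.1.2)
  rwa [hfin.toFinset.inf_id_eq_sInf, hfin.coe_toFinset, Ideal.sInf_minimalPrimes] at hle

/-- Flatness modulo `I` gives flatness modulo powers of `I` along a finite injective map. -/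
theorem flat_quot_pow [IsNoetherianRing R] (S : Type u) [CommRing S] [Algebra R S] [Module.Finite R S]
    (hinj : Function.Injective (algebraMap R S)) (M : Type u) [AddCommGroup M] [Module R M]
    [Module.Flat S (S ⊗[R] M)] (I : Ideal R) [Module.Flat (R ⧸ I) ((R ⧸ I) ⊗[R] M)] (n : ℕ) :
    Module.Flat (R ⧸ I ^ n) ((R ⧸ I ^ n) ⊗[R] M) := by
  obtain ⟨k, hk⟩ := Ideal.exists_pow_inf_eq_pow_smul I (LinearMap.range (Algebra.linearMap R S))
  let φ := algebraMap R S
  let seq : ℕ → Ideal R := fun j => (fun J : Ideal R => ((J ^ 2).map φ).comap φ)^[j] I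
  have hflat : ∀ j, Module.Flat (R ⧸ seq j) ((R ⧸ seq j) ⊗[R] M) := by
    intro j
    induction j with
    | zero => assumption
    | succ j ih =>
      haveI := ih
      have h := flat_quotient_comap_sq (R := R) S (seq j) M
      rw [show seq (j + 1) = ((seq j ^ 2).map φ).comap φ from Function.iterate_succ_apply' _ j I]
      exact h
  have hmap : ∀ j, (seq j).map φ ≤ (I ^ 2 ^ j).map φ := by
    intro j
    induction j with
    | zero =>
      show I.map φ ≤ _
      rw [pow_zero, pow_one]
    | succ j ih =>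
      rw [show seq (j + 1) = ((seq j ^ 2).map φ).comap φ from Function.iterate_succ_apply' _ j I]
      refine le_trans (Ideal.map_comap_le) ?_
      rw [Ideal.map_pow, Ideal.map_pow, pow_succ 2 j, pow_mul]
      refine Ideal.pow_right_mono ?_ 2
      rw [← Ideal.map_pow]
      exact ih
  haveI := hflat (n + k)
  refine flat_quot_of_le (I := seq (n + k)) ?_ M
  have hge : k + n ≤ 2 ^ (n + k) := by rw [add_comm]; exact Nat.lt_two_pow_self.le
  intro x hx
  have h1 : φ x ∈ (I ^ 2 ^ (n + k)).map φ := hmap _ (Ideal.mem_map_of_mem φ hx)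
  have h2 : φ x ∈ I ^ 2 ^ (n + k) • (⊤ : Submodule R S) ⊓ LinearMap.range (Algebra.linearMap R S) := by
    refine ⟨?_, ⟨x, rfl⟩⟩
    rw [Ideal.smul_top_eq_map]
    exact h1
  rw [hk _ (le_trans (Nat.le_add_right k n) hge)] at h2
  have h3 : φ x ∈ Submodule.map (Algebra.linearMap R S) (I ^ (2 ^ (n + k) - k)) := by
    have h4 := Submodule.smul_mono (le_refl (I ^ (2 ^ (n + k) - k)))
      (inf_le_right : I ^ k • (⊤ : Submodule R S) ⊓ LinearMap.range (Algebra.linearMap R S) ≤ _) h2
    rw [LinearMap.range_eq_map, ← Submodule.map_smul'', smul_eq_mul, Ideal.mul_top] at h4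
    exact h4
  obtain ⟨y, hy, hxy⟩ := h3
  obtain rfl : y = x := hinj hxy
  exact Ideal.pow_le_pow_right (by omega) hy

/-- Key criterion over a domain. -/
theorem flat_of_regular_element [IsDomain R] (M : Type u) [AddCommGroup M] [Module R M] (g : R) (hg : g ≠ 0)
    (htf : ∀ x : M, g • x = 0 → x = 0)
    [Module.Flat (Localization.Away g) (Localization.Away g ⊗[R] M)]
    [Module.Flat (R ⧸ Ideal.span {g}) ((R ⧸ Ideal.span {g}) ⊗[R] M)] : Module.Flat R M := by
  let A := Localization.Away g
  let S := Submonoid.powers g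
  have hS : S ≤ nonZeroDivisors R := powers_le_nonZeroDivisors_of_noZeroDivisors hg
  have hI : Function.Injective ((Submodule.subtype (Ideal.span {g})).rTensor M) := by
    let e : R ≃ₗ[R] Ideal.span {g} := LinearEquiv.toSpanNonzeroSingleton R R g hg
    intro x y hxy
    obtain ⟨x, rfl⟩ := ((LinearEquiv.rTensor M e)).surjective x
    obtain ⟨y, rfl⟩ := ((LinearEquiv.rTensor M e)).surjective y
    refine congrArg _ ((TensorProduct.lid R M).injective ?_)
    have key : ∀ z, TensorProduct.lid R M ((Submodule.subtype (Ideal.span {g})).rTensor M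
        (LinearEquiv.rTensor M e z)) = g • TensorProduct.lid R M z := fun z => by
      induction z using TensorProduct.induction_on with
      | zero => simp
      | tmul r m => simp [e, LinearEquiv.toSpanNonzeroSingleton, smul_smul, mul_comm]
      | add u v hu hv => simp only [map_add, smul_add, hu, hv]
    have h := congrArg (TensorProduct.lid R M) hxy
    rw [key, key, ← sub_eq_zero, ← smul_sub] at h
    exact sub_eq_zero.mp (htf _ h)
  rw [Module.Flat.iff_rTensor_injective']
  intro J
  -- multiplication by `g` is injective on `J ⊗ M`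
  let a : J →ₗ[R] J := LinearMap.lsmul R J g
  have ha : Function.Injective a := fun x y h => by
    refine Subtype.ext (mul_left_cancel₀ hg ?_)
    exact congrArg Subtype.val h
  have hreg : Function.Injective (a.rTensor M) := by
    refine LocFlat.rTensor_injective_of_pres M a (LinearMap.range a).mkQ ha a.exact_map_mkQ_range
      (Submodule.mkQ_surjective _) (LocFlat.pres_of_killed M (Ideal.span {g}) hI ‹_› _ ?_)
    rw [eq_bot_iff, Submodule.smul_le]
    intro r hr z _
    obtain ⟨w, rfl⟩ := Submodule.mkQ_surjective _ z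
    obtain ⟨c, rfl⟩ := Ideal.mem_span_singleton'.mp hr
    rw [Submodule.mem_bot, ← map_smul, Submodule.mkQ_apply, Submodule.Quotient.mk_eq_zero]
    exact ⟨c • w, by simp [a, smul_smul, mul_comm]⟩
  have hpow : ∀ (n : ℕ) (z : J ⊗[R] M), g ^ n • z = 0 → z = 0 := by
    intro n
    induction n with
    | zero => intro z hz; simpa using hz
    | succ n ih =>
      intro z hz
      refine ih z (hreg ?_)
      rw [map_zero]
      have : a.rTensor M (g ^ n • z) = g • (g ^ n • z) := by
        generalize g ^ n • z = w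
        induction w using TensorProduct.induction_on with
        | zero => simp
        | tmul j m => simp [a, TensorProduct.smul_tmul']
        | add u v hu hv => simp only [map_add, smul_add, hu, hv]
      rw [this, smul_smul, ← pow_succ', hz]
  -- kernel is killed by a power of `g`
  let J' : Ideal A := J.map (algebraMap R A)
  let ι : J →ₗ[R] J' :=
    { toFun := fun x => ⟨algebraMap R A x, Ideal.mem_map_of_mem _ x.2⟩
      map_add' := fun x y => Subtype.ext (map_add _ _ _)
      map_smul' := fun r x => Subtype.ext (by simp [Algebra.smul_def]) }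
  haveI : IsLocalizedModule S ι := by
    refine IsLocalizedModule.mk (fun s => ?_) (fun z => ?_) (fun {x y} h => ⟨1, ?_⟩)
    · have hu : IsUnit (algebraMap R A (s : R)) := IsLocalization.map_units A s
      refine (Module.End.isUnit_iff _).mpr ⟨fun u v huv => Subtype.ext (hu.mul_left_cancel ?_), fun u =>
        ⟨(↑hu.unit⁻¹ : A) • u, ?_⟩⟩
      · simpa [Algebra.smul_def] using congrArg Subtype.val huv
      · refine Subtype.ext ?_
        show (s : R) • ((↑hu.unit⁻¹ : A) * (u : A)) = (u : A)
        rw [Algebra.smul_def, ← mul_assoc, IsUnit.mul_val_inv, one_mul]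
    · obtain ⟨⟨j, s⟩, h⟩ := (IsLocalization.mem_map_algebraMap_iff S A).mp z.2
      refine ⟨⟨j, s⟩, Subtype.ext ?_⟩
      show (s : R) • (z : A) = algebraMap R A j
      rw [Algebra.smul_def, mul_comm]
      exact h
    · have := congrArg Subtype.val h
      rw [Subtype.ext (IsLocalization.injective A hS this)]
  have hinj : Function.Injective (((Submodule.subtype J').restrictScalars R).rTensor M) :=
    rTensor_injective_of_flat_baseChange A M _ (Submodule.injective_subtype _)
  rw [injective_iff_map_eq_zero]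
  intro z hz
  have h2 : ι.rTensor M z = 0 := hinj (by
    rw [map_zero, ← LinearMap.rTensor_comp_apply,
      show (Submodule.subtype J').restrictScalars R ∘ₗ ι = Algebra.linearMap R A ∘ₗ Submodule.subtype J from
        LinearMap.ext fun x => rfl, LinearMap.rTensor_comp_apply, hz, map_zero])
  haveI : IsLocalizedModule S (ι.rTensor M) := IsLocalizedModule.rTensor (N := M) (g := ι) (S := S)
  obtain ⟨⟨_, n, rfl⟩, hs⟩ := (IsLocalizedModule.eq_zero_iff S (ι.rTensor M)).mp h2
  exact hpow n z hs

/-- Domain step: flatness from flatness modulo all nonzero primes. -/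
theorem flat_of_finite_domain [IsDomain R] [IsNoetherianRing R] (B : Type u) [CommRing B] [IsDomain B]
    [Algebra R B] [Module.Finite R B] (hinj : Function.Injective (algebraMap R B))
    (M : Type u) [AddCommGroup M] [Module R M] [Module.Flat B (B ⊗[R] M)]
    (h : ∀ p : Ideal R, p.IsPrime → p ≠ ⊥ → Module.Flat (R ⧸ p) ((R ⧸ p) ⊗[R] M)) :
    Module.Flat R M := by
  obtain ⟨L, hB, c, hc, hL, hLh, hhL⟩ := DomMod.exists_basis_up_to_scalar R B
  obtain ⟨i, hi⟩ : ∃ i, hB 1 i ≠ 0 := by
    by_contra hall
    push Not at hall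
    have h1 := hLh 1
    rw [show hB 1 = 0 from funext hall, map_zero] at h1
    exact hc (hinj (by rw [map_zero, Algebra.algebraMap_eq_smul_one, ← h1]))
  let g := c * hB 1 i
  have hg : g ≠ 0 := mul_ne_zero hc hi
  have hne : ∀ n : ℕ, Module.Flat (R ⧸ Ideal.span {g ^ n}) ((R ⧸ Ideal.span {g ^ n}) ⊗[R] M) := by
    intro n
    haveI := flat_quot_radical M (Ideal.span {g}) (fun p hp hle => h p hp (fun h0 => hg (by
      have := hle (Ideal.mem_span_singleton_self g)
      rwa [h0, Ideal.mem_bot] at this)))
    obtain ⟨m, hm⟩ := Ideal.exists_radical_pow_le_of_fg (Ideal.span {g}) (IsNoetherian.noetherian _)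
    haveI := flat_quot_pow B hinj M (Ideal.span {g}).radical (m * n)
    refine flat_quot_of_le (I := (Ideal.span {g}).radical ^ (m * n)) ?_ M
    rw [pow_mul, ← Ideal.span_singleton_pow]
    exact Ideal.pow_right_mono hm n
  have hkill : ∀ (a : R) (x : M), a ≠ 0 → a • x = 0 → hB 1 i • x = 0 := by
    intro a x ha hx
    have hBM : (1 : B) ⊗ₜ[R] x = 0 := by
      have h1 : algebraMap R B a • ((1 : B) ⊗ₜ[R] x) = 0 := by
        rw [algebraMap_smul, ← TensorProduct.tmul_smul, hx, TensorProduct.tmul_zero]
      exact (smul_eq_zero.mp h1).resolve_left (fun h0 => ha ((map_eq_zero_iff _ hinj).mp h0))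
    have := congrArg ((TensorProduct.lid R M).toLinearMap ∘ₗ ((LinearMap.proj i ∘ₗ hB).rTensor M)) hBM
    simpa using this
  have htf : ∀ x : M, g • x = 0 → x = 0 := by
    intro x hx
    have hgx : g • x = 0 := hx
    let I2 := Ideal.span {g ^ 2}
    haveI := hne 2
    haveI : Module.Flat (R ⧸ I2) ((R ⧸ I2) ⊗[R] M) := hne 2
    let f1 : (R ⧸ I2) →ₗ[R ⧸ I2] (R ⧸ I2) := LinearMap.lsmul (R ⧸ I2) (R ⧸ I2) (Ideal.Quotient.mk I2 g)
    have hex : Function.Exact f1 f1 := by
      intro y
      constructor
      · intro hy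
        obtain ⟨y, rfl⟩ := Ideal.Quotient.mk_surjective y
        rw [show f1 (Ideal.Quotient.mk I2 y) = Ideal.Quotient.mk I2 (g * y) from rfl,
          Ideal.Quotient.eq_zero_iff_mem, Ideal.mem_span_singleton'] at hy
        obtain ⟨w, hw⟩ := hy
        refine ⟨Ideal.Quotient.mk I2 w, ?_⟩
        show Ideal.Quotient.mk I2 (g * w) = _
        congr 1
        exact mul_left_cancel₀ hg (by linear_combination hw)
      · rintro ⟨w, rfl⟩
        obtain ⟨w, rfl⟩ := Ideal.Quotient.mk_surjective w
        show Ideal.Quotient.mk I2 (g * (g * w)) = 0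
        rw [Ideal.Quotient.eq_zero_iff_mem, Ideal.mem_span_singleton']
        exact ⟨w, by ring⟩
    have hex' := Module.Flat.rTensor_exact ((R ⧸ I2) ⊗[R] M) hex
    let e := TensorProduct.lid (R ⧸ I2) ((R ⧸ I2) ⊗[R] M)
    have key : ∀ w, e (f1.rTensor _ w) = g • e w := fun w => by
      induction w using TensorProduct.induction_on with
      | zero => simp
      | tmul r m => simp [e, f1, ← algebraMap_smul (R ⧸ I2) g, smul_smul]
      | add u v hu hv => simp only [map_add, smul_add, hu, hv]
    obtain ⟨w, hw⟩ := (hex' (e.symm ((1 : R ⧸ I2) ⊗ₜ[R] x))).mp (e.injective (by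
      rw [key, LinearEquiv.apply_symm_apply, map_zero, ← TensorProduct.tmul_smul, hgx, TensorProduct.tmul_zero]))
    have h1 : g • e w = (1 : R ⧸ I2) ⊗ₜ[R] x := by rw [← key, hw, LinearEquiv.apply_symm_apply]
    obtain ⟨y, hy⟩ := Submodule.Quotient.mk_surjective _
      ((TensorProduct.quotTensorEquivQuotSMul M I2) (e w))
    have h2 := congrArg (TensorProduct.quotTensorEquivQuotSMul M I2) h1
    rw [map_smul, ← hy, ← Submodule.Quotient.mk_smul,
      show ((1 : R ⧸ I2)) = Ideal.Quotient.mk I2 1 from rfl,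
      TensorProduct.quotTensorEquivQuotSMul_mk_tmul, one_smul, Submodule.Quotient.eq,
      Submodule.ideal_span_singleton_smul] at h2
    obtain ⟨z, -, hz⟩ := (Submodule.mem_smul_pointwise_iff_exists _ _ _).mp h2
    have hxy : x = g • (y - g • z) := by
      rw [smul_sub, smul_smul, ← pow_two, hz]; abel
    have h3 : g ^ 2 • (y - g • z) = 0 := by rw [pow_two, mul_smul, ← hxy, hgx]
    rw [hxy, show g = c * hB 1 i from rfl, mul_smul, hkill _ _ (pow_ne_zero 2 hg) h3, smul_zero]
  haveI : Module.Flat (R ⧸ Ideal.span {g}) ((R ⧸ Ideal.span {g}) ⊗[R] M) := by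
    have := hne 1; rwa [pow_one] at this
  let A := Localization.Away g
  haveI : Module.Flat (A ⊗[R] B) ((A ⊗[R] B) ⊗[A] (A ⊗[R] M)) := by
    letI : Algebra B (A ⊗[R] B) := Algebra.TensorProduct.rightAlgebra
    haveI := flat_baseChange_of_tower (R := R) B (A ⊗[R] B) M
    exact flat_baseChange_twice A (A ⊗[R] B) M
  haveI : Module.FaithfullyFlat A (A ⊗[R] B) := by
    have hu : IsUnit (algebraMap R A c) := isUnit_of_dvd_unit
      (map_dvd (algebraMap R A) ⟨hB 1 i, rfl⟩)
      (IsLocalization.map_units A (⟨g, 1, pow_one g⟩ : Submonoid.powers g))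
    have h1 : ∀ z, L.baseChange A (hB.baseChange A z) = algebraMap R A c • z := fun z => by
      induction z using TensorProduct.induction_on with
      | zero => simp
      | tmul r m => simp [hLh, algebraMap_smul]
      | add u v hu hv => simp only [map_add, smul_add, hu, hv]
    have h2 : ∀ z, hB.baseChange A (L.baseChange A z) = algebraMap R A c • z := fun z => by
      induction z using TensorProduct.induction_on with
      | zero => simp
      | tmul r m => simp [hhL, algebraMap_smul]
      | add u v hu hv => simp only [map_add, smul_add, hu, hv]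
    have hbij : Function.Bijective (L.baseChange A) :=
      ⟨fun x y hxy => by
        have h3 := congrArg (hB.baseChange A) hxy
        rw [h2, h2] at h3
        exact hu.smul_left_cancel.mp h3,
       fun z => ⟨(↑hu.unit⁻¹ : A) • hB.baseChange A z, by
        rw [map_smul, h1, smul_smul, IsUnit.val_inv_mul, one_smul]⟩⟩
    haveI : Nontrivial A := (IsLocalization.injective A
      (powers_le_nonZeroDivisors_of_noZeroDivisors hg)).nontrivial
    haveI : Nonempty (Fin (Module.finrank R B)) := ⟨i⟩
    let e : A ⊗[R] (Fin (Module.finrank R B) → R) ≃ₗ[A] (Fin (Module.finrank R B) → A) :=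
      TensorProduct.piScalarRight R A A _
    haveI : Module.Free A (A ⊗[R] B) := Module.Free.of_equiv
      ((e.symm.trans (LinearEquiv.ofBijective _ hbij)))
    haveI : Nontrivial (A ⊗[R] B) := (e.symm.trans (LinearEquiv.ofBijective _ hbij)).toEquiv.symm.nontrivial
    infer_instance
  haveI : Module.Flat A ((A ⊗[R] B) ⊗[A] (A ⊗[R] M)) := Module.Flat.trans A (A ⊗[R] B) _
  haveI : Module.Flat A (A ⊗[R] M) :=
    FDesc.Algebra.flat_of_faithfullyFlat_baseChange (A := A) (B := A) (C := A ⊗[R] B) _
  exact flat_of_regular_element M g hg htf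

theorem flat_quot_prime [IsNoetherianRing R] (S : Type u) [CommRing S] [Algebra R S] [Module.Finite R S]
    (hinj : Function.Injective (algebraMap R S)) (M : Type u) [AddCommGroup M] [Module R M]
    [Module.Flat S (S ⊗[R] M)] (p : Ideal R) : p.IsPrime → Module.Flat (R ⧸ p) ((R ⧸ p) ⊗[R] M) := by
  induction p using WellFoundedGT.induction with
  | ind p ih =>
  intro hp
  haveI : Algebra.IsIntegral R S := Algebra.IsIntegral.of_finite R S
  obtain ⟨q, -, hq, hqp⟩ := Ideal.exists_ideal_over_prime_of_isIntegral p (⊥ : Ideal S) (by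
    rw [← RingHom.ker_eq_comap_bot, (RingHom.injective_iff_ker_eq_bot _).mp hinj]; exact bot_le)
  letI : Algebra (R ⧸ p) (S ⧸ q) := (Ideal.quotientMap q (algebraMap R S) (le_of_eq hqp.symm)).toAlgebra
  haveI : IsScalarTower R (R ⧸ p) (S ⧸ q) := IsScalarTower.of_algebraMap_eq fun _ => rfl
  haveI := flat_baseChange_of_tower (R := R) S (S ⧸ q) M
  haveI := flat_baseChange_twice (R := R) (R ⧸ p) (S ⧸ q) M
  haveI : Module.Finite (R ⧸ p) (S ⧸ q) := Module.Finite.of_restrictScalars_finite R _ _
  refine flat_of_finite_domain (R := R ⧸ p) (S ⧸ q) (Ideal.quotientMap_injective' (le_of_eq hqp)) _ ?_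
  intro P hP hP0
  let P' := P.comap (Ideal.Quotient.mk p)
  have hlt : p < P' := by
    refine lt_of_le_of_ne ?_ ?_
    · exact fun x hx => by
        show Ideal.Quotient.mk p x ∈ P
        rw [Ideal.Quotient.eq_zero_iff_mem.mpr hx]; exact P.zero_mem
    · intro heq
      refine hP0 (eq_bot_iff.mpr fun z hz => ?_)
      obtain ⟨z, rfl⟩ := Ideal.Quotient.mk_surjective z
      rw [Ideal.mem_bot, Ideal.Quotient.eq_zero_iff_mem, heq]
      exact hz
  haveI := ih P' hlt inferInstance
  letI : Algebra (R ⧸ P') ((R ⧸ p) ⧸ P) := (Ideal.quotientMap P (Ideal.Quotient.mk p) le_rfl).toAlgebra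
  haveI : IsScalarTower R (R ⧸ P') ((R ⧸ p) ⧸ P) := IsScalarTower.of_algebraMap_eq fun _ => rfl
  haveI := flat_baseChange_of_tower (R := R) (R ⧸ P') ((R ⧸ p) ⧸ P) M
  exact flat_baseChange_twice (R ⧸ p) ((R ⧸ p) ⧸ P) M

theorem flat_of_finite_injective [IsNoetherianRing R] (S : Type u) [CommRing S] [Algebra R S]
    [Module.Finite R S] (hinj : Function.Injective (algebraMap R S)) (M : Type u) [AddCommGroup M]
    [Module R M] [Module.Flat S (S ⊗[R] M)] : Module.Flat R M := by
  haveI := flat_quot_radical M (⊥ : Ideal R) fun p hp _ => flat_quot_prime S hinj M p hp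
  haveI : Module.Flat (R ⧸ nilradical R) ((R ⧸ nilradical R) ⊗[R] M) := this
  exact flat_of_nilpotent S hinj _ (IsNoetherianRing.isNilpotent_nilradical R) M

end Groth.Agent.FlatNilp
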