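import Groth.Agent.FlatNilp.Finite
import Groth.Agent.ProjDesc.Basic
import Groth.Agent.MLMod.BaseChange
import Groth.Agent.CAlgLib.UnivInj
import Mathlib.RingTheory.Ideal.GoingUp

/-!
Mittag-Leffler and projective modules descend along finite injective maps of Noetherian rings.
-/

set_option autoImplicit false
set_option linter.style.haveILetI false

universe u

open TensorProduct

namespace Groth.Agent.FlatNilp

variable {R : Type u} [CommRing R] (M : Type u) [AddCommGroup M] [Module R M]

/-- The product criterion passes to extensions when `M` is flat. -/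
theorem piRightHom_injective_of_exact [Module.Flat R M] {ι : Type u} {A B C : ι → Type u}
    [∀ i, AddCommGroup (A i)] [∀ i, Module R (A i)] [∀ i, AddCommGroup (B i)] [∀ i, Module R (B i)]
    [∀ i, AddCommGroup (C i)] [∀ i, Module R (C i)] (f : ∀ i, A i →ₗ[R] B i) (g : ∀ i, B i →ₗ[R] C i)
    (hf : ∀ i, Function.Injective (f i)) (hex : ∀ i, Function.Exact (f i) (g i))
    (hA : Function.Injective (piRightHom R R M A)) (hC : Function.Injective (piRightHom R R M C)) :
    Function.Injective (piRightHom R R M B) := by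
  have hnat : ∀ {U V : ι → Type u} [∀ i, AddCommGroup (U i)] [∀ i, Module R (U i)]
      [∀ i, AddCommGroup (V i)] [∀ i, Module R (V i)] (h : ∀ i, U i →ₗ[R] V i) (z : M ⊗[R] (Π i, U i)) (i : ι),
      piRightHom R R M V ((LinearMap.pi fun i => h i ∘ₗ LinearMap.proj i).lTensor M z) i =
        (h i).lTensor M (piRightHom R R M U z i) := by
    intro U V _ _ _ _ h z i
    induction z using TensorProduct.induction_on with
    | zero => simp
    | tmul m q => simp
    | add x y hx hy => simp only [map_add, Pi.add_apply, hx, hy]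
  have hexpi : Function.Exact (LinearMap.pi fun i => f i ∘ₗ LinearMap.proj i)
      (LinearMap.pi fun i => g i ∘ₗ LinearMap.proj i) := by
    intro y
    constructor
    · intro hy
      choose a ha using fun i => (hex i (y i)).mp (congrFun hy i)
      exact ⟨a, funext ha⟩
    · rintro ⟨a, rfl⟩
      exact funext fun i => (hex i).apply_apply_eq_zero (a i)
  rw [injective_iff_map_eq_zero]
  intro z hz
  obtain ⟨w, rfl⟩ := (Module.Flat.lTensor_exact M hexpi z).mp (hC (funext fun i => by
    rw [hnat, hz, map_zero]; simp))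
  have hw : piRightHom R R M A w = 0 := funext fun i => by
    refine Module.Flat.lTensor_preserves_injective_linearMap (M := M) (f i) (hf i) ?_
    rw [← hnat, hz]; simp
  rw [hA (hw.trans (map_zero _).symm), map_zero]

theorem piRightHom_injective_of_module {S : Type u} [CommRing S] [Algebra R S]
    (hS : CAlg.IsMittagLeffler S (S ⊗[R] M)) {ι : Type u} (Q : ι → Type u) [∀ i, AddCommGroup (Q i)]
    [∀ i, Module R (Q i)] [∀ i, Module S (Q i)] [∀ i, IsScalarTower R S (Q i)] :
    Function.Injective (piRightHom R R M Q) := by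
  let θ : ∀ (N : Type u) [AddCommGroup N] [Module R N] [Module S N] [IsScalarTower R S N],
      (S ⊗[R] M) ⊗[S] N ≃+ M ⊗[R] N := fun N _ _ _ _ =>
    ((TensorProduct.comm S (S ⊗[R] M) N).toAddEquiv.trans
      (AlgebraTensorModule.cancelBaseChange R S S N M).toAddEquiv).trans
      (TensorProduct.comm R N M).toAddEquiv
  have key : ∀ x i, θ (Q i) (piRightHom S S (S ⊗[R] M) Q x i) =
      piRightHom R R M Q (θ (Π i, Q i) x) i := by
    intro x i
    induction x using TensorProduct.induction_on with
    | zero => simp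
    | tmul m q =>
      induction m using TensorProduct.induction_on with
      | zero => simp
      | tmul s m => simp [θ, AlgebraTensorModule.cancelBaseChange_tmul]
      | add a b ha hb => simp only [TensorProduct.add_tmul, map_add, Pi.add_apply, ha, hb]
    | add a b ha hb => simp only [map_add, Pi.add_apply, ha, hb]
  intro x y hxy
  obtain ⟨x, rfl⟩ := (θ (Π i, Q i)).surjective x
  obtain ⟨y, rfl⟩ := (θ (Π i, Q i)).surjective y
  refine congrArg _ (hS ι Q (funext fun i => (θ (Q i)).injective ?_))
  rw [key, key, hxy]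

theorem exists_dual_one_notMem (S : Type u) [CommRing S] [Algebra R S] [Module.Finite R S]
    (hinj : Function.Injective (algebraMap R S)) (p : Ideal R) (hp : p.IsPrime) :
    ∃ (g : R) (φ : S →ₗ[R] R ⧸ p), g ∉ p ∧ φ 1 = Ideal.Quotient.mk p g := by
  haveI : Algebra.IsIntegral R S := Algebra.IsIntegral.of_finite R S
  obtain ⟨q, -, hq, hqp⟩ := Ideal.exists_ideal_over_prime_of_isIntegral p (⊥ : Ideal S) (by
    rw [← RingHom.ker_eq_comap_bot, (RingHom.injective_iff_ker_eq_bot _).mp hinj]; exact bot_le)
  letI : Algebra (R ⧸ p) (S ⧸ q) := (Ideal.quotientMap q (algebraMap R S) (le_of_eq hqp.symm)).toAlgebra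
  haveI : IsScalarTower R (R ⧸ p) (S ⧸ q) := IsScalarTower.of_algebraMap_eq fun _ => rfl
  haveI : Module.Finite (R ⧸ p) (S ⧸ q) := Module.Finite.of_restrictScalars_finite R _ _
  haveI : Module.IsTorsionFree (R ⧸ p) (S ⧸ q) := Module.isTorsionFree_iff_faithfulSMul.mpr
    ((faithfulSMul_iff_algebraMap_injective _ _).mpr (Ideal.quotientMap_injective' (le_of_eq hqp)))
  obtain ⟨L, hB, c, hc, hL, hLh, hhL⟩ := DomMod.exists_basis_up_to_scalar (R ⧸ p) (S ⧸ q)
  obtain ⟨i, hi⟩ : ∃ i, hB 1 i ≠ 0 := by
    by_contra hall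
    push Not at hall
    have h1 := hLh 1
    rw [show hB 1 = 0 from funext hall, map_zero] at h1
    exact hc ((Ideal.quotientMap_injective' (le_of_eq hqp)) (by
      rw [map_zero]
      exact (Algebra.algebraMap_eq_smul_one c).trans h1.symm))
  obtain ⟨g, hg⟩ := Ideal.Quotient.mk_surjective (hB 1 i)
  exact ⟨g, ((LinearMap.proj i ∘ₗ hB).restrictScalars R) ∘ₗ (Submodule.mkQ q).restrictScalars R,
    fun h => hi (hg ▸ Ideal.Quotient.eq_zero_iff_mem.mpr h), hg.symm⟩

/-- Mittag-Leffler descends along finite injective maps with Noetherian base, for flat modules. -/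
theorem isMittagLeffler_of_finite_injective [IsNoetherianRing R] (S : Type u) [CommRing S]
    [Algebra R S] [Module.Finite R S] (hinj : Function.Injective (algebraMap R S)) [Module.Flat R M]
    (hS : CAlg.IsMittagLeffler S (S ⊗[R] M)) : CAlg.IsMittagLeffler R M := by
  suffices H : ∀ (I : Ideal R) (ι : Type u) (Q : ι → Type u) [∀ i, AddCommGroup (Q i)]
      [∀ i, Module R (Q i)], (∀ i, ∀ r ∈ I, ∀ q : Q i, r • q = 0) →
        Function.Injective (piRightHom R R M Q) from
    fun ι Q _ _ => H ⊥ ι Q fun i r hr q => by rw [(Submodule.mem_bot R).mp hr, zero_smul]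
  intro I
  induction I using WellFoundedGT.induction with
  | ind I ih =>
  intro ι Q _ _ hQ
  by_cases hI : I.IsPrime
  · obtain ⟨g, φ, hg, hφ⟩ := exists_dual_one_notMem S hinj I hI
    let e : ∀ i, Q i →ₗ[R] S ⊗[R] Q i := fun i => TensorProduct.mk R S (Q i) 1
    refine piRightHom_injective_of_exact M (fun i => (LinearMap.ker (e i)).subtype) e
      (fun i => (LinearMap.ker (e i)).injective_subtype) (fun i => LinearMap.exact_subtype_ker_map (e i))
      (ih (I ⊔ Ideal.span {g}) (left_lt_sup.mpr fun h => hg (h (Ideal.mem_span_singleton_self g))) ι _ ?_)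
      (piRightHom_injective_of_module M hS (fun i => S ⊗[R] Q i))
    intro i r hr q
    obtain ⟨a, ha, b, hb, rfl⟩ := Submodule.mem_sup.mp hr
    obtain ⟨d, rfl⟩ := Ideal.mem_span_singleton'.mp hb
    have hgq : g • (q : Q i) = 0 := by
      let act : (R ⧸ I) →ₗ[R] (Q i →ₗ[R] Q i) := Submodule.liftQ I (LinearMap.lsmul R (Q i))
        (fun x hx => LinearMap.ext fun y => hQ i x hx y)
      have h := congrArg (TensorProduct.lift (act ∘ₗ φ)) (show (1 : S) ⊗ₜ[R] (q : Q i) = 0 from q.2)
      rwa [map_zero, TensorProduct.lift.tmul, LinearMap.comp_apply, hφ] at h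
    refine Subtype.ext ?_
    rw [Submodule.coe_smul, add_smul, mul_smul, hgq, hQ i a ha, smul_zero, add_zero, ZeroMemClass.coe_zero]
  · by_cases htop : I = ⊤
    · subst htop
      haveI : ∀ i, Subsingleton (Q i) := fun i => subsingleton_of_forall_eq 0 fun q => by
        rw [← one_smul R q]; exact hQ i 1 trivial q
      intro x y _
      haveI : Subsingleton (M ⊗[R] (Π i, Q i)) := by
        refine subsingleton_of_forall_eq 0 fun z => ?_
        induction z using TensorProduct.induction_on with
        | zero => rfl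
        | tmul m q => rw [Subsingleton.elim q 0, TensorProduct.tmul_zero]
        | add a b ha hb => rw [ha, hb, add_zero]
      exact Subsingleton.elim x y
    obtain ⟨a, ha, b, hb, hab⟩ := (Ideal.not_isPrime_iff.mp hI).resolve_left htop
    let f : ∀ i, Q i →ₗ[R] Q i := fun i => LinearMap.lsmul R (Q i) a
    refine piRightHom_injective_of_exact M (fun i => (LinearMap.ker (f i)).subtype)
      (fun i => (f i).rangeRestrict)
      (fun i => (LinearMap.ker (f i)).injective_subtype) (fun i => ?_)
      (ih (I ⊔ Ideal.span {a}) (left_lt_sup.mpr fun h => ha (h (Ideal.mem_span_singleton_self a))) ι _ ?_)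
      (ih (I ⊔ Ideal.span {b}) (left_lt_sup.mpr fun h => hb (h (Ideal.mem_span_singleton_self b))) ι _ ?_)
    · intro y
      rw [← LinearMap.mem_ker, LinearMap.ker_rangeRestrict]
      exact ⟨fun hy => ⟨⟨y, hy⟩, rfl⟩, fun ⟨z, hz⟩ => hz ▸ z.2⟩
    · intro i r hr q
      obtain ⟨x, hx, y, hy, rfl⟩ := Submodule.mem_sup.mp hr
      obtain ⟨d, rfl⟩ := Ideal.mem_span_singleton'.mp hy
      refine Subtype.ext ?_
      rw [Submodule.coe_smul, add_smul, mul_smul, show a • (q : Q i) = 0 from q.2, hQ i x hx,
        smul_zero, add_zero, ZeroMemClass.coe_zero]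
    · intro i r hr q
      obtain ⟨x, hx, y, hy, rfl⟩ := Submodule.mem_sup.mp hr
      obtain ⟨d, rfl⟩ := Ideal.mem_span_singleton'.mp hy
      obtain ⟨v, hv⟩ := q.2
      refine Subtype.ext ?_
      rw [Submodule.coe_smul, ← hv]
      show (x + d * b) • a • v = 0
      rw [add_smul, hQ i x hx, zero_add, smul_smul, mul_assoc, mul_comm b a, mul_smul,
        hQ i _ hab, smul_zero]

/-- A module whose base change to `S` is projective is flat and Mittag-Leffler. -/
theorem flat_isMittagLeffler_of_projective [IsNoetherianRing R] (S : Type u) [CommRing S]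
    [Algebra R S] [Module.Finite R S] (hinj : Function.Injective (algebraMap R S))
    [Module.Projective S (S ⊗[R] M)] : Module.Flat R M ∧ CAlg.IsMittagLeffler R M := by
  haveI := flat_of_finite_injective S hinj M
  exact ⟨inferInstance,
    isMittagLeffler_of_finite_injective M S hinj (ProjDesc.isMittagLeffler_of_projective S _)⟩

theorem projective_quot_of_closed (R S : Type u) [CommRing R] [CommRing S] [Algebra R S] {M : Type u}
    [AddCommGroup M] [Module R M] (s : S ⊗[R] M →ₗ[S] (S ⊗[R] M →₀ S))
    (hs : ∀ z, Finsupp.linearCombination S (id : S ⊗[R] M → S ⊗[R] M) (s z) = z)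
    (N : Submodule R M) (J : Set (S ⊗[R] M))
    (h₁ : ∀ z ∈ ProjDesc.img R S N, s z ∈ Finsupp.supported S S J)
    (h₂ : ∀ w ∈ Finsupp.supported S S J,
      Finsupp.linearCombination S (id : S ⊗[R] M → S ⊗[R] M) w ∈ ProjDesc.img R S N) :
    Module.Projective S (S ⊗[R] (M ⧸ N)) := by
  classical
  let π := Finsupp.linearCombination S (id : S ⊗[R] M → S ⊗[R] M)
  haveI : Module.Projective S (S ⊗[R] M) := Module.Projective.of_split s π (LinearMap.ext hs)
  let e : S ⊗[R] M →ₗ[S] S ⊗[R] M :=
    π ∘ₗ { toFun := fun w => w.filter (· ∈ J)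
           map_add' := fun a b => Finsupp.filter_add
           map_smul' := fun r a => Finsupp.filter_smul } ∘ₗ s
  have he : ∀ z, e z ∈ ProjDesc.img R S N := fun z => h₂ _ ((Finsupp.mem_supported' S _).mpr
    fun i hi => Finsupp.filter_apply_neg _ _ hi)
  have hid : ∀ z ∈ ProjDesc.img R S N, e z = z := fun z hz => by
    show π ((s z).filter (· ∈ J)) = z
    rw [(Finsupp.filter_eq_self_iff _ _).mpr fun i hi => by
      by_contra h; exact hi ((Finsupp.mem_supported' S _).mp (h₁ z hz) i h)]
    exact hs z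
  let q := N.mkQ.baseChange S
  have hq : Function.Surjective q := LinearMap.lTensor_surjective S N.mkQ_surjective
  have hker : LinearMap.ker q = ProjDesc.img R S N := by
    ext z
    exact lTensor_exact S (LinearMap.exact_subtype_mkQ N) N.mkQ_surjective z
  let r := (LinearMap.ker q).liftQ (LinearMap.id - e) (fun z hz => by
    rw [hker] at hz
    rw [LinearMap.mem_ker, LinearMap.sub_apply, LinearMap.id_apply, hid z hz, sub_self]) ∘ₗ
      (LinearMap.quotKerEquivOfSurjective q hq).symm.toLinearMap
  refine Module.Projective.of_split r q (LinearMap.ext fun z => ?_)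
  obtain ⟨z, rfl⟩ := hq z
  have h1 : (LinearMap.quotKerEquivOfSurjective q hq).symm (q z) = Submodule.Quotient.mk z := by
    rw [LinearEquiv.symm_apply_eq]; rfl
  have h2 : q (e z) = 0 := by rw [← LinearMap.mem_ker, hker]; exact he z
  simp [r, h1, h2]

theorem baseChange_subtype_injective (R S : Type u) [CommRing R] [CommRing S] [Algebra R S] {M : Type u}
    [AddCommGroup M] [Module R M] (N : Submodule R M) (h : Module.Flat R (M ⧸ N)) :
    Function.Injective (N.subtype.baseChange S) := by
  intro a b hab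
  apply (TensorProduct.comm R S N).injective
  apply CAlgLib.UnivInj.universallyInjective_of_flat (LinearMap.exact_subtype_mkQ N) N.injective_subtype
    N.mkQ_surjective S
  have hc : ∀ z, N.subtype.rTensor S (TensorProduct.comm R S N z) =
      TensorProduct.comm R S M (N.subtype.baseChange S z) := by
    intro z
    induction z using TensorProduct.induction_on with
    | zero => simp
    | tmul x y => simp
    | add x y hx hy => simp only [map_add, hx, hy]
  rw [hc, hc, hab]

open ProjDesc (img img_mono one_tmul_mem_img img_le_of_forall exists_finset_mem_img) in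
/-- Projectivity descends along finite injective ring maps with Noetherian base. -/
theorem projective_of_finite_injective (R S : Type u) [CommRing R] [IsNoetherianRing R] [CommRing S]
    [Algebra R S] [Module.Finite R S] (hinj : Function.Injective (algebraMap R S))
    (M : Type u) [AddCommGroup M] [Module R M]
    [Module.Projective S (S ⊗[R] M)] : Module.Projective R M := by
  classical
  obtain ⟨s, hs⟩ := ‹Module.Projective S (S ⊗[R] M)›.out
  let π := Finsupp.linearCombination S (id : S ⊗[R] M → S ⊗[R] M)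
  have hπs : ∀ z, π (s z) = z := hs
  let Closed : Submodule R M → Prop := fun N ↦ ∃ J : Set (S ⊗[R] M),
    (∀ z ∈ img R S N, s z ∈ Finsupp.supported S S J) ∧ ∀ w ∈ Finsupp.supported S S J, π w ∈ img R S N
  refine Module.Projective.of_lifting_property'' ?_
  intro g hg
  let U := M →₀ R
  let P : Set (Submodule R (M × U)) := {G | (∀ p ∈ G, g p.2 = p.1) ∧
    (∀ p ∈ G, p.1 = 0 → p.2 = 0) ∧ Closed (G.map (LinearMap.fst R M U))}
  have hbot : (⊥ : Submodule R (M × U)) ∈ P := by
    refine ⟨fun p hp ↦ ?_, fun p hp _ ↦ ?_, ∅, fun z hz ↦ ?_, fun w hw ↦ ?_⟩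
    · rw [(Submodule.mem_bot R).mp hp]; simp
    · rw [(Submodule.mem_bot R).mp hp]; simp
    · have : img R S ((⊥ : Submodule R (M × U)).map (LinearMap.fst R M U)) = ⊥ := by
        refine eq_bot_iff.mpr (img_le_of_forall R S fun x hx ↦ ?_)
        rw [Submodule.map_bot, Submodule.mem_bot] at hx
        rw [hx, tmul_zero]; exact zero_mem _
      rw [this, Submodule.mem_bot] at hz
      rw [hz, map_zero]; exact zero_mem _
    · rw [Finsupp.supported_empty, Submodule.mem_bot] at hw
      rw [hw, map_zero]; exact zero_mem _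
  obtain ⟨G, -, hG⟩ := zorn_le_nonempty₀ P (fun C hCP hC y hy ↦ by
    refine ⟨sSup C, ?_, fun z hz ↦ le_sSup hz⟩
    have hmem : ∀ p, p ∈ sSup C → ∃ G ∈ C, p ∈ G := fun p hp ↦
      (Submodule.mem_sSup_of_directed ⟨y, hy⟩ hC.directedOn).mp hp
    refine ⟨fun p hp ↦ ?_, fun p hp h0 ↦ ?_, ?_⟩
    · obtain ⟨G, hG, hpG⟩ := hmem p hp; exact (hCP hG).1 p hpG
    · obtain ⟨G, hG, hpG⟩ := hmem p hp; exact (hCP hG).2.1 p hpG h0
    choose J hJ₁ hJ₂ using fun G : C ↦ (hCP G.2).2.2
    refine ⟨⋃ G, J G, fun z hz ↦ ?_, fun w hw ↦ ?_⟩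
    · have hle : img R S ((sSup C).map (LinearMap.fst R M U)) ≤
          (Finsupp.supported S S (⋃ G, J G)).comap s := by
        refine img_le_of_forall R S ?_
        rintro _ ⟨p, hp, rfl⟩
        obtain ⟨G, hG, hpG⟩ := hmem p hp
        exact Finsupp.supported_mono (Set.subset_iUnion J ⟨G, hG⟩)
          (hJ₁ ⟨G, hG⟩ _ (one_tmul_mem_img R S ⟨p, hpG, rfl⟩))
      exact hle hz
    · rw [Finsupp.supported_iUnion] at hw
      refine (iSup_le (fun G : C ↦ ?_) :
        ⨆ G, Finsupp.supported S S (J G) ≤ (img R S ((sSup C).map _)).comap π) hw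
      exact fun w hw ↦ img_mono R S (Submodule.map_mono (le_sSup G.2)) (hJ₂ G w hw)) ⊥ hbot
  obtain ⟨hG₁, hG₂, J, hJ₁, hJ₂⟩ := hG.prop
  -- the projection of `G` is everything
  have htop : G.map (LinearMap.fst R M U) = ⊤ := by
    by_contra hne
    obtain ⟨x, -, hx⟩ := SetLike.exists_of_lt (lt_top_iff_ne_top.mpr hne)
    set N := G.map (LinearMap.fst R M U) with hN
    choose D hD using exists_finset_mem_img R S (M := M)
    let Cn : ℕ → Set M := fun n ↦ Nat.rec {x}
      (fun _ C ↦ C ∪ ⋃ c ∈ C, ⋃ i ∈ (s ((1 : S) ⊗ₜ[R] c)).support, ((D i : Finset M) : Set M)) n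
    have hCn : ∀ n, (Cn n).Countable := by
      intro n
      induction n with
      | zero => exact Set.countable_singleton x
      | succ n ih =>
        exact ih.union (ih.biUnion fun c _ ↦
          (Finset.countable_toSet _).biUnion fun i _ ↦ Finset.countable_toSet _)
    let C' : Set M := ⋃ n, Cn n
    let N' := N ⊔ Submodule.span R C'
    let J' : Set (S ⊗[R] M) := J ∪ ⋃ c ∈ C', ((s ((1 : S) ⊗ₜ[R] c)).support : Set _)
    have hJ₁' : ∀ z ∈ img R S N', s z ∈ Finsupp.supported S S J' := by
      have : N' ≤ (((Finsupp.supported S S J').comap s).restrictScalars R).comap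
          (TensorProduct.mk R S M 1) := by
        refine sup_le (fun a ha ↦ ?_) (Submodule.span_le.mpr fun c hc ↦ ?_)
        · exact Finsupp.supported_mono Set.subset_union_left (hJ₁ _ (one_tmul_mem_img R S ha))
        · refine (Finsupp.mem_supported S _).mpr fun i hi ↦ Or.inr ?_
          exact Set.mem_biUnion hc hi
      exact fun z hz ↦ img_le_of_forall R S (P := (Finsupp.supported S S J').comap s)
        (fun a ha ↦ this ha) hz
    have hsingle : ∀ i ∈ J', π (Finsupp.single i 1) ∈ img R S N' := by
      rintro i (hi | hi)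
      · exact img_mono R S le_sup_left (hJ₂ _ (Finsupp.single_mem_supported S 1 hi))
      · obtain ⟨c, hc, hi⟩ := Set.mem_iUnion₂.mp hi
        obtain ⟨n, hn⟩ := Set.mem_iUnion.mp hc
        simp only [π, Finsupp.linearCombination_single, one_smul, id]
        refine img_mono R S (Submodule.span_le.mpr fun d hd ↦ ?_) (hD i)
        exact Submodule.mem_sup_right (Submodule.subset_span (Set.mem_iUnion.mpr
          ⟨n + 1, Or.inr (Set.mem_biUnion hn (Set.mem_biUnion hi hd))⟩))
    have hJ₂' : ∀ w ∈ Finsupp.supported S S J', π w ∈ img R S N' := by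
      intro w hw
      rw [Finsupp.supported_eq_span_single] at hw
      induction hw using Submodule.span_induction with
      | mem w hw => obtain ⟨i, hi, rfl⟩ := hw; exact hsingle i hi
      | zero => rw [map_zero]; exact zero_mem _
      | add a b _ _ ha hb => rw [map_add]; exact add_mem ha hb
      | smul r a _ ha => rw [map_smul]; exact Submodule.smul_mem _ r ha
    -- the quotient
    let N₀ : Submodule R N' := N.comap N'.subtype
    let ι := N'.subtype.baseChange S
    let q := (N₀.mkQ).baseChange S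
    haveI : Module.Projective S (S ⊗[R] (M ⧸ N')) :=
      projective_quot_of_closed R S s hπs N' J' hJ₁' hJ₂'
    have hι : Function.Injective ι := baseChange_subtype_injective R S N' (flat_of_finite_injective S hinj (M ⧸ N'))
    have hqsurj : Function.Surjective q :=
      LinearMap.lTensor_surjective S N₀.mkQ_surjective
    have hker : ∀ t, q t = 0 ↔ ι t ∈ img R S N := by
      intro t
      have hex : Function.Exact (N₀.subtype.baseChange S) q :=
        lTensor_exact S (LinearMap.exact_subtype_mkQ N₀) N₀.mkQ_surjective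
      rw [hex]
      let j : N₀ →ₗ[R] N := (N'.subtype ∘ₗ N₀.subtype).codRestrict N fun a ↦ a.2
      have hj : ∀ v, ι (N₀.subtype.baseChange S v) = N.subtype.baseChange S (j.baseChange S v) := by
        intro v
        rw [← LinearMap.comp_apply, ← LinearMap.baseChange_comp, ← LinearMap.comp_apply,
          ← LinearMap.baseChange_comp]
        rfl
      constructor
      · rintro ⟨v, rfl⟩; exact ⟨_, (hj v).symm⟩
      · rintro ⟨v, hv⟩
        let i : N →ₗ[R] N₀ := (Submodule.inclusion le_sup_left).codRestrict N₀ fun a ↦ a.2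
        refine ⟨i.baseChange S v, hι ?_⟩
        rw [← hv, ← LinearMap.comp_apply, ← LinearMap.baseChange_comp, ← LinearMap.comp_apply,
          ← LinearMap.baseChange_comp]
        rfl
    have hpre : ∀ i : S ⊗[R] M, ∃ t, i ∈ J' → ι t = π (Finsupp.single i 1) := fun i ↦ by
      by_cases hi : i ∈ J'
      · obtain ⟨t, ht⟩ := hsingle i hi; exact ⟨t, fun _ ↦ ht⟩
      · exact ⟨0, fun h ↦ absurd h hi⟩
    choose pre hpre using hpre
    let γ := Finsupp.linearCombination S pre
    have hγ : ∀ w ∈ Finsupp.supported S S J', ι (γ w) = π w := by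
      intro w hw
      rw [Finsupp.supported_eq_span_single] at hw
      induction hw using Submodule.span_induction with
      | mem w hw =>
        obtain ⟨i, hi, rfl⟩ := hw
        simp only [γ, Finsupp.linearCombination_single, one_smul, hpre i hi]
      | zero => simp
      | add a b _ _ ha hb => simp only [map_add, ha, hb]
      | smul r a _ ha => simp only [map_smul, ha]
    let β := q ∘ₗ γ
    have hβJ : ∀ w ∈ Finsupp.supported S S J, β w = 0 := fun w hw ↦ by
      rw [LinearMap.comp_apply, hker, hγ w (Finsupp.supported_mono Set.subset_union_left hw)]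
      exact hJ₂ w hw
    let flt : (S ⊗[R] M →₀ S) →ₗ[S] (S ⊗[R] M →₀ S) :=
      { toFun := fun w ↦ w.filter (· ∉ J)
        map_add' := fun a b ↦ Finsupp.filter_add
        map_smul' := fun r a ↦ Finsupp.filter_smul }
    let α₀ := flt ∘ₗ s ∘ₗ ι
    have hα₀ : ∀ t, q t = 0 → α₀ t = 0 := by
      intro t ht
      have := hJ₁ _ ((hker t).mp ht)
      exact (Finsupp.filter_eq_zero_iff _ _).mpr fun i hi ↦
        (Finsupp.mem_supported' S _).mp this i hi
    have hβα : ∀ t, β (α₀ t) = q t := by
      intro t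
      have hw : s (ι t) ∈ Finsupp.supported S S J' := hJ₁' _ ⟨t, rfl⟩
      have h0 : β ((s (ι t)).filter (· ∈ J)) = 0 :=
        hβJ _ ((Finsupp.mem_supported' S _).mpr fun i hi ↦ Finsupp.filter_apply_neg _ _ hi)
      calc β (α₀ t) = β ((s (ι t)).filter (· ∈ J)) + β ((s (ι t)).filter (· ∉ J)) := by
            rw [h0, zero_add]; rfl
        _ = β (s (ι t)) := by rw [← map_add, Finsupp.filter_add_filter_not]
        _ = q t := by
            change q (γ (s (ι t))) = q t
            congr 1
            apply hι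
            rw [hγ _ hw, hπs]
    obtain ⟨α, hα⟩ : ∃ α : S ⊗[R] (N' ⧸ N₀) →ₗ[S] (S ⊗[R] M →₀ S), α ∘ₗ q = α₀ := by
      let e := LinearMap.quotKerEquivOfSurjective q hqsurj
      refine ⟨(LinearMap.ker q).liftQ α₀ (fun t ht ↦ hα₀ t ht) ∘ₗ e.symm.toLinearMap,
        LinearMap.ext fun t ↦ ?_⟩
      have : e.symm (q t) = Submodule.Quotient.mk t := by
        rw [LinearEquiv.symm_apply_eq]; rfl
      simp [this]
    have : Module.Projective S (S ⊗[R] (N' ⧸ N₀)) := by
      refine Module.Projective.of_split α β (LinearMap.ext fun z ↦ ?_)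
      obtain ⟨t, rfl⟩ := hqsurj z
      rw [LinearMap.comp_apply, ← LinearMap.comp_apply α q, hα, hβα]
      rfl
    obtain ⟨hfl, hML⟩ := flat_isMittagLeffler_of_projective (N' ⧸ N₀) S hinj
    haveI := hfl
    have hcg : CAlg.IsCountablyGenerated R (N' ⧸ N₀) := by
      refine ⟨N₀.mkQ '' (N'.subtype ⁻¹' C'), ((Set.countable_iUnion hCn).preimage
        N'.injective_subtype).image _, eq_top_iff.mpr fun z _ ↦ ?_⟩
      obtain ⟨⟨a, ha⟩, rfl⟩ := N₀.mkQ_surjective z
      obtain ⟨n, hn, v, hv, rfl⟩ := Submodule.mem_sup.mp ha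
      have hn0 : N₀.mkQ ⟨n + v, ha⟩ = N₀.mkQ ⟨v, Submodule.mem_sup_right hv⟩ := by
        rw [Submodule.mkQ_apply, Submodule.mkQ_apply, Submodule.Quotient.eq]
        change n + v - v ∈ N
        rwa [add_sub_cancel_right]
      rw [hn0, ← Submodule.map_span]
      refine Submodule.mem_map_of_mem ?_
      have hrange : C' ⊆ LinearMap.range N'.subtype := fun c hc ↦
        ⟨⟨c, Submodule.mem_sup_right (Submodule.subset_span hc)⟩, rfl⟩
      have : v ∈ (Submodule.span R (N'.subtype ⁻¹' C')).map N'.subtype := by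
        rw [Submodule.map_span, Set.image_preimage_eq_of_subset hrange]
        exact hv
      obtain ⟨v', hv', hv''⟩ := this
      have : v' = ⟨v, Submodule.mem_sup_right hv⟩ := Subtype.ext hv''
      exact this ▸ hv'
    have := ProjDesc.projective_of_countable R (N' ⧸ N₀) hML hcg
    obtain ⟨σ, hσ⟩ := Module.projective_lifting_property N₀.mkQ LinearMap.id N₀.mkQ_surjective
    obtain ⟨lam, hlam⟩ := Module.projective_lifting_property g (N'.subtype ∘ₗ σ) hg
    let G' := G ⊔ LinearMap.range ((N'.subtype ∘ₗ σ).prod lam)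
    have hG' : G'.map (LinearMap.fst R M U) = N' := by
      rw [Submodule.map_sup, ← LinearMap.range_comp, LinearMap.fst_prod]
      refine le_antisymm (sup_le le_sup_left ?_) fun a ha ↦ ?_
      · rintro _ ⟨z, rfl⟩; exact (σ z).2
      · refine Submodule.mem_sup.mpr ⟨a - (σ (N₀.mkQ ⟨a, ha⟩)).1, ?_, _, ⟨_, rfl⟩, sub_add_cancel _ _⟩
        have : (⟨a, ha⟩ : N') - σ (N₀.mkQ ⟨a, ha⟩) ∈ N₀ := by
          rw [← Submodule.Quotient.eq]
          exact congr($hσ.symm (N₀.mkQ ⟨a, ha⟩))
        exact this
    have hmem : G' ∈ P := by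
      refine ⟨fun p hp ↦ ?_, fun p hp h0 ↦ ?_, ?_⟩
      · obtain ⟨p₁, hp₁, _, ⟨z, rfl⟩, rfl⟩ := Submodule.mem_sup.mp hp
        simp only [Prod.snd_add, Prod.fst_add, map_add, hG₁ p₁ hp₁, LinearMap.prod_apply]
        rw [add_right_inj]
        exact congr($hlam z)
      · obtain ⟨p₁, hp₁, _, ⟨z, rfl⟩, rfl⟩ := Submodule.mem_sup.mp hp
        have hz : z = 0 := by
          have h1 : (σ z).1 ∈ N := by
            have : p₁.1 + (σ z).1 = 0 := h0
            rw [eq_neg_of_add_eq_zero_right this]
            exact N.neg_mem ⟨p₁, hp₁, rfl⟩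
          have h2 : N₀.mkQ (σ z) = 0 := (Submodule.Quotient.mk_eq_zero N₀).mpr h1
          rwa [← LinearMap.comp_apply, hσ] at h2
        subst hz
        simp only [map_zero, add_zero] at h0 ⊢
        exact hG₂ p₁ hp₁ h0
      · rw [hG']; exact ⟨J', hJ₁', hJ₂'⟩
    have : G' ≤ G := hG.2 hmem le_sup_left
    apply hx
    have hxN : x ∈ N' := Submodule.mem_sup_right (Submodule.subset_span
      (Set.mem_iUnion.mpr ⟨0, rfl⟩))
    rw [← hG'] at hxN
    exact Submodule.map_mono this hxN
  have hex : ∀ m : M, ∃ v : U, (m, v) ∈ G := fun m ↦ by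
    obtain ⟨p, hp, rfl⟩ : m ∈ G.map (LinearMap.fst R M U) := htop ▸ trivial
    exact ⟨p.2, hp⟩
  choose l hl using hex
  have huniq : ∀ m v, (m, v) ∈ G → v = l m := fun m v hv ↦ by
    have := hG₂ _ (G.sub_mem hv (hl m)) (sub_self m)
    exact sub_eq_zero.mp this
  exact ⟨{ toFun := l
           map_add' := fun a b ↦ (huniq _ _ (G.add_mem (hl a) (hl b))).symm
           map_smul' := fun r a ↦ (huniq _ _ (G.smul_mem r (hl a))).symm },
    LinearMap.ext fun m ↦ hG₁ _ (hl m)⟩


end Groth.Agent.FlatNilp
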